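import Groth.Prelude.Def_GmAct
import Mathlib.RingTheory.Flat.EquationalCriterion
import Mathlib.RingTheory.Flat.Localization
import Mathlib.RingTheory.DiscreteValuationRing.Basic
import Mathlib.RingTheory.Nilpotent.Basic
import Mathlib.Algebra.Polynomial.Laurent

/-!
# The obstruction in `R[s, t]/(st - π)`

`π^(N-1)` is not in `(s^N, t^N)`, and this survives in flat algebras seeing the node.
-/

set_option autoImplicit false
set_option backward.isDefEq.respectTransparency false
set_option backward.isDefEq.respectTransparency.types false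

universe u

noncomputable section

open scoped LaurentPolynomial

namespace Groth.L11.BGaS

variable {R : Type u} [CommRing R] {π : R}

local notation "B" => ThetaS.STRing R π
local notation "s" => ThetaS.sFn R π
local notation "t" => ThetaS.tFn R π

/-- The embedding in Laurent polynomials. -/
def toLau (R : Type u) [CommRing R] (π : R) : ThetaS.STRing R π →ₐ[R] R[T;T⁻¹] :=
  ThetaS.stPt (LaurentPolynomial.T 1) (LaurentPolynomial.C π * LaurentPolynomial.T (-1)) (by
    rw [mul_left_comm, ← LaurentPolynomial.T_add, show (1 : ℤ) + -1 = 0 by ring, LaurentPolynomial.T_zero, mul_one]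
    rfl)

theorem coeff_mul_single (x : R[T;T⁻¹]) (a n : ℤ) (r : R) :
    (x * AddMonoidAlgebra.single a r).coeff n = x.coeff (n - a) * r :=
  AddMonoidAlgebra.coeff_mul_single_eq_coeff_mul (n - a) (by intros; constructor <;> intro h <;> lia)

theorem dvd_coeff (b : B) (m : ℕ) : π ^ m ∣ (toLau R π b).coeff (-m) := by
  obtain ⟨p, rfl⟩ := Ideal.Quotient.mk_surjective b
  induction p using MvPolynomial.induction_on generalizing m with
  | C r =>
    rw [show Ideal.Quotient.mk _ (MvPolynomial.C r) = algebraMap R B r from rfl, AlgHom.commutes,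
      LaurentPolynomial.algebraMap_apply]
    rcases Nat.eq_zero_or_pos m with rfl | hm
    · simp
    · simp [hm.ne']
  | add p q hp hq => rw [map_add, map_add, AddMonoidAlgebra.coeff_add]; exact dvd_add (hp m) (hq m)
  | mul_X p i hp =>
    rw [map_mul, map_mul]
    match i with
    | 0 =>
      rw [show toLau R π (Ideal.Quotient.mk _ (MvPolynomial.X 0)) = LaurentPolynomial.T 1 from ThetaS.stPt_sFn _ _ _]
      rw [show (LaurentPolynomial.T 1 : R[T;T⁻¹]) = AddMonoidAlgebra.single 1 1 from rfl,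
        coeff_mul_single]
      rw [show -(m : ℤ) - 1 = -((m + 1 : ℕ) : ℤ) by push_cast; ring, mul_one]
      exact
        (pow_dvd_pow π (Nat.le_succ m)).trans (hp (m + 1))
    | 1 =>
      rw [show toLau R π (Ideal.Quotient.mk _ (MvPolynomial.X 1)) =
        LaurentPolynomial.C π * LaurentPolynomial.T (-1) from ThetaS.stPt_tFn _ _ _]
      rw [← LaurentPolynomial.single_eq_C_mul_T, coeff_mul_single]
      rcases m with _ | m
      · simp
      · rw [show -((m + 1 : ℕ) : ℤ) - -1 = -(m : ℤ) by push_cast; ring, pow_succ]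
        exact mul_dvd_mul_right (hp m) π

theorem pow_dvd_of_mem [IsDomain R] {N m : ℕ}
    (h : algebraMap R B π ^ m ∈ Ideal.span {s ^ N, t ^ N}) : π ^ N ∣ π ^ m := by
  obtain ⟨a, b, hab⟩ := Ideal.mem_span_pair.1 h
  have := congrArg (fun x => (toLau R π x).coeff 0) hab
  simp only [map_add, map_mul, map_pow, AlgHom.commutes, LaurentPolynomial.algebraMap_apply,
    AddMonoidAlgebra.coeff_add, Finsupp.add_apply] at this
  rw [show toLau R π s = LaurentPolynomial.T 1 from ThetaS.stPt_sFn _ _ _,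
    show toLau R π t = LaurentPolynomial.C π * LaurentPolynomial.T (-1) from ThetaS.stPt_tFn _ _ _,
    mul_pow, LaurentPolynomial.T_pow, LaurentPolynomial.T_pow, ← map_pow, ← map_pow,
    ← LaurentPolynomial.single_eq_C_mul_T,
    show (LaurentPolynomial.T ((N : ℤ) * 1) : R[T;T⁻¹]) = AddMonoidAlgebra.single ((N : ℤ) * 1) 1 from rfl,
    coeff_mul_single, coeff_mul_single, LaurentPolynomial.C_apply, if_pos rfl, Algebra.algebraMap_self, RingHom.id_apply] at this
  rw [← this]
  refine dvd_add ?_ (dvd_mul_left _ _)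
  rw [mul_one, mul_one, zero_sub]
  exact dvd_coeff a N

theorem exists_sub_mem (b : B) : ∃ r : R, b - algebraMap R B r ∈ Ideal.span {s, t} := by
  obtain ⟨p, rfl⟩ := Ideal.Quotient.mk_surjective b
  induction p using MvPolynomial.induction_on with
  | C r => exact ⟨r, by rw [show Ideal.Quotient.mk _ (MvPolynomial.C r) = algebraMap R B r from rfl, sub_self]; exact zero_mem _⟩
  | add p q hp hq =>
    obtain ⟨a, ha⟩ := hp
    obtain ⟨b, hb⟩ := hq
    exact ⟨a + b, by rw [map_add, map_add, add_sub_add_comm]; exact add_mem ha hb⟩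
  | mul_X p i _ =>
    refine ⟨0, ?_⟩
    rw [map_zero, sub_zero, map_mul]
    refine Ideal.mul_mem_left _ _ (Ideal.subset_span ?_)
    fin_cases i
    · exact Or.inl rfl
    · exact Or.inr rfl

variable [IsDomain R] [IsDiscreteValuationRing R]

omit [IsDomain R] [IsDiscreteValuationRing R] in
/-- Cancelling an element congruent to a unit. -/
theorem mem_of_mul_mem {A : Type u} [CommRing A] {a b c z w : A} (n : ℕ) (hw : IsUnit w)
    (hz : z - w ∈ Ideal.span {a, b}) (h : z * c ∈ Ideal.span {a ^ n, b ^ n}) : c ∈ Ideal.span {a ^ n, b ^ n} := by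
  let f := Ideal.Quotient.mk (Ideal.span {a ^ n, b ^ n})
  have h0 : ∀ e ∈ Ideal.span {a ^ n, b ^ n}, f e = 0 := fun e he => Ideal.Quotient.eq_zero_iff_mem.2 he
  have hn : ∀ e ∈ ({a, b} : Set A), IsNilpotent (f e) := by
    rintro _ (rfl | rfl)
    · exact ⟨n, (map_pow f _ _).symm.trans (h0 _ (Ideal.subset_span (Or.inl rfl)))⟩
    · exact ⟨n, (map_pow f _ _).symm.trans (h0 _ (Ideal.subset_span (Or.inr rfl)))⟩
  have hle : Ideal.span {a, b} ≤ (nilradical _).comap f :=
    Ideal.span_le.2 fun e he => mem_nilradical.2 (hn e he)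
  have h3 : IsUnit (f z) := by
    have := (mem_nilradical.1 (hle hz)).isUnit_add_left_of_commute (hw.map f) (mul_comm _ _)
    rwa [← map_add, add_sub_cancel] at this
  refine Ideal.Quotient.eq_zero_iff_mem.1 (h3.mul_left_cancel ?_)
  rw [mul_zero, ← map_mul]
  exact h0 _ h

/-- In a flat algebra with a prime over the node the obstruction survives. -/
theorem not_mem_map (hπ : Irreducible π) {C : Type u} [CommRing C] (ψ : ThetaS.STRing R π →+* C) (hψ : ψ.Flat)
    (q : Ideal C) [q.IsPrime] (hs : ψ s ∈ q) (ht : ψ t ∈ q) (m : ℕ) :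
    ψ (algebraMap R B π) ^ m ∉ Ideal.span {ψ s ^ (m + 1), ψ t ^ (m + 1)} := by
  intro hmem
  algebraize [ψ]
  obtain ⟨a, b, hab⟩ := Ideal.mem_span_pair.1 hmem
  let f : Fin 3 → B := ![algebraMap R B π ^ m, -s ^ (m + 1), -t ^ (m + 1)]
  let x : Fin 3 → C := ![1, a, b]
  have hrel : ∑ i, f i • x i = 0 := by
    simp only [Fin.sum_univ_three, Algebra.smul_def, f, x, RingHom.algebraMap_toAlgebra, Matrix.cons_val_zero,
      Matrix.cons_val_one, Matrix.cons_val_two, Matrix.tail_cons, Matrix.head_cons, map_neg, map_pow, mul_one]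
    linear_combination -hab
  obtain ⟨ι, A, y, hxy, hA⟩ := @Module.Flat.isTrivialRelation_of_sum_smul_eq_zero B C _ _ Algebra.toModule _ (Fin 3) _ f x hrel
  have h1 : (1 : C) = ∑ j, A 0 j • y j := hxy 0
  refine (Ideal.ne_top_iff_one q).1 (‹q.IsPrime›.ne_top) (h1 ▸ Submodule.sum_mem _ fun j _ => ?_)
  rw [Algebra.smul_def, RingHom.algebraMap_toAlgebra]
  refine q.mul_mem_right _ ?_
  by_contra hc
  have hj : A 0 j * algebraMap R B π ^ m ∈ Ideal.span {s ^ (m + 1), t ^ (m + 1)} := by
    have hj := hA j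
    simp only [Fin.sum_univ_three, f, Matrix.cons_val_zero, Matrix.cons_val_one, Matrix.cons_val_two,
      Matrix.tail_cons, Matrix.head_cons] at hj
    exact Ideal.mem_span_pair.2 ⟨A 1 j, A 2 j, by linear_combination -hj⟩
  -- `A 0 j` is a unit modulo the ideal
  obtain ⟨r, hr⟩ := exists_sub_mem (π := π) (A 0 j)
  have hle : Ideal.span {s, t} ≤ q.comap ψ := Ideal.span_le.2 (by rintro _ (rfl | rfl); exacts [hs, ht])
  have hru : IsUnit r := by
    by_contra hnu
    obtain ⟨r', rfl⟩ : π ∣ r := by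
      rw [← Ideal.mem_span_singleton, ← hπ.maximalIdeal_eq]; exact hnu
    refine hc (show A 0 j ∈ q.comap ψ from ?_)
    rw [← sub_add_cancel (A 0 j) (algebraMap R B (π * r'))]
    refine add_mem (hle hr) ?_
    rw [map_mul, ← ThetaS.sFn_mul_tFn]
    exact Ideal.mul_mem_right _ _ (Ideal.mul_mem_right _ _ (hle (Ideal.subset_span (Or.inl rfl))))
  replace hj := mem_of_mul_mem (m + 1) (hru.map (algebraMap R B)) hr hj
  have := pow_dvd_of_mem hj
  rw [pow_dvd_pow_iff hπ.ne_zero hπ.not_isUnit] at this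
  lia

/-- No two local sections differing by `1/π`. -/
theorem no_cocycle (hπ : Irreducible π) {C : Type u} [CommRing C] (ψ : ThetaS.STRing R π →+* C) (hψ : ψ.Flat)
    (hreg : ∀ y : C, ψ (algebraMap R B π) * y = 0 → y = 0)
    (q : Ideal C) [q.IsPrime] (hs : ψ s ∈ q) (ht : ψ t ∈ q) (u v : C) (n : ℕ) :
    ψ (algebraMap R B π) * (u * ψ t ^ (n + 1)) + (ψ s * ψ t) ^ (n + 1) ≠
      ψ (algebraMap R B π) * (v * ψ s ^ (n + 1)) := by
  intro h
  refine not_mem_map hπ ψ hψ q hs ht n (Ideal.mem_span_pair.2 ⟨v, -u, ?_⟩)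
  rw [← sub_eq_zero]
  refine hreg _ ?_
  have e : ψ s * ψ t = ψ (algebraMap R B π) := by rw [← map_mul, ThetaS.sFn_mul_tFn]
  rw [e] at h
  linear_combination -h

omit [IsDomain R] [IsDiscreteValuationRing R] in
/-- Regular elements stay regular in a flat algebra. -/
theorem flat_regular {A C : Type u} [CommRing A] [CommRing C] (ψ : A →+* C) (hψ : ψ.Flat) {a : A}
    (ha : ∀ y, a * y = 0 → y = 0) (y : C) (hy : ψ a * y = 0) : y = 0 := by
  algebraize [ψ]
  have hrel : ∑ i, (![a] : Fin 1 → A) i • (![y] : Fin 1 → C) i = 0 := by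
    simpa [Algebra.smul_def, RingHom.algebraMap_toAlgebra] using hy
  obtain ⟨k, M, z, hxy, hM⟩ :=
    @Module.Flat.isTrivialRelation_of_sum_smul_eq_zero A C _ _ Algebra.toModule _ (Fin 1) _ ![a] ![y] hrel
  refine (hxy 0).trans (Finset.sum_eq_zero fun j _ => ?_)
  rw [ha (M 0 j) (by simpa using hM j), zero_smul]

end Groth.L11.BGaS
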