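import Groth.Agent.L25.GaPts
import Groth.Prelude.Def_AlgSt5

/-!
# The additive torsor `π y = x (x - 1)` of two opens meeting where `π` is invertible
-/

set_option autoImplicit false
set_option backward.isDefEq.respectTransparency false
set_option backward.isDefEq.respectTransparency.types false

universe u

open CategoryTheory CategoryTheory.Limits MonoidalCategory CartesianMonoidalCategory MonObj AlgebraicGeometry Opposite

noncomputable section

namespace Groth.L11.BGaS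

/-! ### Functions -/

theorem Γhom_apply {W V : Scheme.{u}} (f : W ⟶ V) {V' : Scheme.{u}} (g : V ⟶ V') (a : Γ(V', ⊤)) :
    (f ≫ g).appTop a = f.appTop (g.appTop a) := by
  rw [Scheme.Hom.comp_appTop]; rfl

theorem mem_bo {W : Scheme.{u}} {a : Γ(W, ⊤)} {w : W} :
    w ∈ W.basicOpen a ↔ IsUnit (W.presheaf.germ ⊤ w trivial a) := Scheme.mem_basicOpen_top _ _ _

theorem eq_zero_of_cover {W : Scheme.{u}} {a b d : Γ(W, ⊤)} (hab : W.basicOpen a ⊔ W.basicOpen b = ⊤)
    (ha : a * d = 0) (hb : b * d = 0) : d = 0 := by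
  refine TopCat.Presheaf.section_ext W.sheaf ⊤ _ _ fun w hw => ?_
  change W.presheaf.germ ⊤ w hw d = W.presheaf.germ ⊤ w hw 0
  rw [map_zero]
  rcases (show w ∈ W.basicOpen a ⊔ W.basicOpen b from hab.ge trivial) with h | h
  · exact (mem_bo.1 h).mul_left_cancel (by rw [← map_mul, ha, map_zero, mul_zero])
  · exact (mem_bo.1 h).mul_left_cancel (by rw [← map_mul, hb, map_zero, mul_zero])

theorem exists_quot {W : Scheme.{u}} {a b c e : Γ(W, ⊤)} (hab : W.basicOpen a ⊔ W.basicOpen b = ⊤)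
    (h : b * c = a * e) : ∃ g : Γ(W, ⊤), a * g = c ∧ b * g = e := by
  let D : Bool → W.Opens := fun i => cond i (W.basicOpen a) (W.basicOpen b)
  let av : Bool → Γ(W, ⊤) := fun i => cond i a b
  let cv : Bool → Γ(W, ⊤) := fun i => cond i c e
  have hu : ∀ i, IsUnit (W.presheaf.map (homOfLE (le_top : D i ≤ ⊤)).op (av i)) := fun i => by
    cases i <;> exact RingedSpace.isUnit_res_basicOpen (X := W.toLocallyRingedSpace.toRingedSpace) _
  let sec : ∀ i, Γ(W, D i) := fun i =>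
    (↑(hu i).unit⁻¹ : Γ(W, D i)) * W.presheaf.map (homOfLE (le_top : D i ≤ ⊤)).op (cv i)
  have hsec : ∀ i, W.presheaf.map (homOfLE (le_top : D i ≤ ⊤)).op (av i) * sec i =
      W.presheaf.map (homOfLE (le_top : D i ≤ ⊤)).op (cv i) := fun i => (hu i).unit.mul_inv_cancel_left _
  have cross : ∀ i j, av j * cv i = av i * cv j := by
    intro i j; cases i <;> cases j <;> first | rfl | exact h | exact h.symm
  have hcompat : TopCat.Presheaf.IsCompatible W.sheaf.1 D sec := fun i j => by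
    let P := D i ⊓ D j
    let ri := W.presheaf.map (homOfLE (inf_le_left : P ≤ D i)).op
    let rj := W.presheaf.map (homOfLE (inf_le_right : P ≤ D j)).op
    let r := W.presheaf.map (homOfLE (le_top : P ≤ ⊤)).op
    have hi : ∀ x, ri (W.presheaf.map (homOfLE (le_top : D i ≤ ⊤)).op x) = r x := fun x => by
      rw [← ConcreteCategory.comp_apply, ← Functor.map_comp]; rfl
    have hj : ∀ x, rj (W.presheaf.map (homOfLE (le_top : D j ≤ ⊤)).op x) = r x := fun x => by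
      rw [← ConcreteCategory.comp_apply, ← Functor.map_comp]; rfl
    change ri (sec i) = rj (sec j)
    have ui : IsUnit (r (av i)) := hi (av i) ▸ (hu i).map ri.hom
    have uj : IsUnit (r (av j)) := hj (av j) ▸ (hu j).map rj.hom
    refine (ui.mul uj).mul_left_cancel ?_
    calc r (av i) * r (av j) * ri (sec i)
        = r (av j) * (ri (W.presheaf.map (homOfLE (le_top : D i ≤ ⊤)).op (av i)) * ri (sec i)) := by rw [hi]; ring
      _ = r (av j) * r (cv i) := by rw [← map_mul, hsec, hi]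
      _ = r (av i) * r (cv j) := by rw [← map_mul, ← map_mul, cross]
      _ = r (av i) * (rj (W.presheaf.map (homOfLE (le_top : D j ≤ ⊤)).op (av j)) * rj (sec j)) := by
        rw [← map_mul rj.hom, hsec, hj]
      _ = r (av i) * r (av j) * rj (sec j) := by rw [hj]; ring
  have hcov : (⊤ : W.Opens) ≤ iSup D := hab.ge.trans (sup_le (le_iSup D true) (le_iSup D false))
  obtain ⟨g, hg, -⟩ := W.sheaf.existsUnique_gluing' D ⊤ (fun i => homOfLE le_top) hcov sec hcompat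
  let g' : Γ(W, ⊤) := g
  have key : ∀ i, av i * g' = cv i := fun i => by
    refine W.sheaf.eq_of_locally_eq' D ⊤ (fun j => homOfLE le_top) hcov _ _ fun j => ?_
    change W.presheaf.map (homOfLE (le_top : D j ≤ ⊤)).op (av i * g') =
      W.presheaf.map (homOfLE (le_top : D j ≤ ⊤)).op (cv i)
    refine (hu j).mul_left_cancel ?_
    have e1 : W.presheaf.map (homOfLE (le_top : D j ≤ ⊤)).op g' = sec j := hg j
    rw [map_mul, e1, mul_left_comm, hsec, ← map_mul, ← map_mul, cross]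
  exact ⟨g', key true, key false⟩

/-! ### The total space -/

variable {R : Type u} [CommRing R] (ϖ : R)

/-- The coordinate ring of `ϖ y = x (x - 1)`. -/
abbrev Crd : Type u := MvPolynomial (Fin 2) R ⧸
  Ideal.span {(MvPolynomial.C ϖ * MvPolynomial.X 1 - MvPolynomial.X 0 * (MvPolynomial.X 0 - 1) : MvPolynomial (Fin 2) R)}

/-- Its structure morphism. -/
abbrev crdHom : Spec (CommRingCat.of (Crd ϖ)) ⟶ Spec (CommRingCat.of R) :=
  Spec.map (CommRingCat.ofHom (algebraMap R (Crd ϖ)))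

/-- A constant as a function. -/
abbrev cst {W : Scheme.{u}} (g : W ⟶ Spec (CommRingCat.of R)) (r : R) : Γ(W, ⊤) :=
  g.appTop ((Scheme.ΓSpecIso (CommRingCat.of R)).inv r)

theorem cst_comp {W V : Scheme.{u}} (a : W ⟶ V) (g : V ⟶ Spec (CommRingCat.of R)) (r : R) :
    cst (a ≫ g) r = a.appTop (cst g r) := Γhom_apply _ _ _

/-- The coordinates on the spectrum. -/
abbrev crdFn (i : Fin 2) : Γ(Spec (CommRingCat.of (Crd ϖ)), ⊤) :=
  (Scheme.ΓSpecIso (CommRingCat.of (Crd ϖ))).inv (Ideal.Quotient.mk _ (MvPolynomial.X i))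

theorem cst_crdHom (r : R) : cst (crdHom ϖ) r =
    (Scheme.ΓSpecIso (CommRingCat.of (Crd ϖ))).inv (algebraMap R (Crd ϖ) r) :=
  (congrArg (fun ψ => (ConcreteCategory.hom ψ) r)
    (Scheme.ΓSpecIso_inv_naturality (CommRingCat.ofHom (algebraMap R (Crd ϖ))))).symm

theorem crdFn_eq : cst (crdHom ϖ) ϖ * crdFn ϖ 1 = crdFn ϖ 0 * (crdFn ϖ 0 - 1) := by
  rw [cst_crdHom, crdFn, crdFn, ← map_mul, ← map_one (Scheme.ΓSpecIso (CommRingCat.of (Crd ϖ))).inv.hom, ← map_sub,
    ← map_mul]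
  refine congrArg _ ?_
  exact (Ideal.Quotient.mk_eq_mk_iff_sub_mem _ _).2 (Ideal.subset_span rfl)

/-- Points of the affine surface. -/
theorem exists_crdPt {W : Scheme.{u}} (g : W ⟶ Spec (CommRingCat.of R)) (x y : Γ(W, ⊤))
    (e : cst g ϖ * y = x * (x - 1)) :
    ∃ z : W ⟶ Spec (CommRingCat.of (Crd ϖ)), z ≫ crdHom ϖ = g ∧ z.appTop (crdFn ϖ 0) = x ∧ z.appTop (crdFn ϖ 1) = y := by
  let φ : R →+* Γ(W, ⊤) := ((Scheme.ΓSpecIso (CommRingCat.of R)).inv ≫ g.appTop).hom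
  let ψ : Crd ϖ →+* Γ(W, ⊤) := Ideal.Quotient.lift _ (MvPolynomial.eval₂Hom φ ![x, y]) fun p hp => by
    obtain ⟨c, rfl⟩ := Ideal.mem_span_singleton'.mp hp
    simp only [map_mul, map_sub, map_one, MvPolynomial.eval₂Hom_C, MvPolynomial.eval₂Hom_X', Matrix.cons_val_zero,
      Matrix.cons_val_one]
    rw [show φ ϖ = cst g ϖ from rfl, e, sub_self, mul_zero]
  let z : W ⟶ Spec (CommRingCat.of (Crd ϖ)) := W.toSpecΓ ≫ Spec.map (CommRingCat.ofHom ψ)
  have hz : ∀ c, z.appTop ((Scheme.ΓSpecIso (CommRingCat.of (Crd ϖ))).inv c) = ψ c := fun c => by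
    refine (Γhom_apply _ _ _).trans
      (Eq.trans (congrArg W.toSpecΓ.appTop (a₂ := (Scheme.ΓSpecIso Γ(W, ⊤)).inv (ψ c)) ?_) ?_)
    · exact (congrArg (fun ψ => (ConcreteCategory.hom ψ) c)
        (Scheme.ΓSpecIso_inv_naturality (CommRingCat.ofHom ψ))).symm
    · change ((Scheme.ΓSpecIso Γ(W, ⊤)).inv ≫ W.toSpecΓ.appTop) (ψ c) = ψ c
      rw [Scheme.toSpecΓ_appTop, Iso.inv_hom_id]
      rfl
  refine ⟨z, ext_of_isAffine ?_, (hz _).trans ?_, (hz _).trans ?_⟩
  · ext a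
    obtain ⟨r, rfl⟩ := (Scheme.ΓSpecIso (CommRingCat.of R)).commRingCatIsoToRingEquiv.symm.surjective a
    change cst (z ≫ crdHom ϖ) r = cst g r
    rw [cst_comp, cst_crdHom, hz]
    exact (Ideal.Quotient.lift_mk _ _ _).trans (MvPolynomial.eval₂Hom_C _ _ _)
  · exact (Ideal.Quotient.lift_mk _ _ _).trans (MvPolynomial.eval₂Hom_X' _ _ _)
  · exact (Ideal.Quotient.lift_mk _ _ _).trans (MvPolynomial.eval₂Hom_X' _ _ _)

theorem crdPt_ext {W : Scheme.{u}} (z z' : W ⟶ Spec (CommRingCat.of (Crd ϖ))) (h : z ≫ crdHom ϖ = z' ≫ crdHom ϖ)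
    (h₀ : z.appTop (crdFn ϖ 0) = z'.appTop (crdFn ϖ 0)) (h₁ : z.appTop (crdFn ϖ 1) = z'.appTop (crdFn ϖ 1)) :
    z = z' := by
  refine ext_of_isAffine ?_
  let e := Scheme.ΓSpecIso (CommRingCat.of (Crd ϖ))
  rw [← cancel_epi e.inv]
  refine CommRingCat.hom_ext (RingHom.ext fun c => ?_)
  obtain ⟨p, rfl⟩ := Ideal.Quotient.mk_surjective c
  induction p using MvPolynomial.induction_on with
  | C r =>
    have := congrArg (fun t : W ⟶ Spec (CommRingCat.of R) => cst t r) h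
    simp only [cst_comp, cst_crdHom] at this
    exact this
  | add p q hp hq => simp only [map_add, hp, hq]
  | mul_X p i hp =>
    simp only [map_mul, hp]
    congr 1
    match i with
    | 0 => exact h₀
    | 1 => exact h₁

/-- Two opens covering `T`, meeting where `ϖ` is invertible. -/
structure Chart where
  T : Over (Spec (CommRingCat.of R))
  Ts : T.left.Opens
  Tt : T.left.Opens
  cover : Ts ⊔ Tt = ⊤
  inter : Ts ⊓ Tt ≤ T.left.basicOpen (cst T.hom ϖ)

variable {ϖ} (D : Chart ϖ)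

/-- The condition on a point. -/
def Chart.cond {W : Scheme.{u}} (f : W ⟶ D.T.left) (x : Γ(W, ⊤)) : W.Opens :=
  (f ⁻¹ᵁ D.Ts ⊓ (W.basicOpen x ⊔ W.basicOpen (f.appTop (cst D.T.hom ϖ)))) ⊔
    (f ⁻¹ᵁ D.Tt ⊓ (W.basicOpen (1 - x) ⊔ W.basicOpen (f.appTop (cst D.T.hom ϖ))))

theorem Chart.cond_comp {W' W : Scheme.{u}} (a : W' ⟶ W) (f : W ⟶ D.T.left) (x : Γ(W, ⊤)) :
    D.cond (a ≫ f) (a.appTop x) = a ⁻¹ᵁ D.cond f x := by
  simp only [Chart.cond, Scheme.Hom.preimage_sup, Scheme.Hom.preimage_inf, Scheme.preimage_basicOpen_top, Γhom_apply,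
    map_sub, map_one, Scheme.Hom.comp_preimage]

/-- The ambient scheme. -/
abbrev Chart.amb : Scheme.{u} := pullback D.T.hom (crdHom ϖ)

/-- The ambient coordinates. -/
abbrev Chart.ambFn (i : Fin 2) : Γ(D.amb, ⊤) := (pullback.snd D.T.hom (crdHom ϖ)).appTop (crdFn ϖ i)

/-- The open part. -/
def Chart.U : D.amb.Opens := D.cond (pullback.fst D.T.hom (crdHom ϖ)) (D.ambFn 0)

/-- The total space. -/
abbrev Chart.tot : Scheme.{u} := D.U

/-- The projection. -/
def Chart.proj : D.tot ⟶ D.T.left := D.U.ι ≫ pullback.fst D.T.hom (crdHom ϖ)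

/-- The coordinates. -/
def Chart.fn (i : Fin 2) : Γ(D.tot, ⊤) := D.U.ι.appTop (D.ambFn i)

theorem Chart.fn_eq : D.proj.appTop (cst D.T.hom ϖ) * D.fn 1 = D.fn 0 * (D.fn 0 - 1) := by
  rw [Chart.proj, Γhom_apply, ← cst_comp, pullback.condition, cst_comp, Chart.fn, Chart.fn, Chart.ambFn, Chart.ambFn,
    ← map_mul, ← map_mul, crdFn_eq]
  simp only [map_mul, map_sub, map_one]

theorem Chart.cond_fn : D.cond D.proj (D.fn 0) = ⊤ := by
  rw [Chart.proj, Chart.fn, D.cond_comp]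
  exact D.U.ι_preimage_self

theorem Chart.exists_pt {W : Scheme.{u}} (f : W ⟶ D.T.left) (x y : Γ(W, ⊤))
    (e : f.appTop (cst D.T.hom ϖ) * y = x * (x - 1)) (hc : D.cond f x = ⊤) :
    ∃ q : W ⟶ D.tot, q ≫ D.proj = f ∧ q.appTop (D.fn 0) = x ∧ q.appTop (D.fn 1) = y := by
  obtain ⟨z, hz, hx, hy⟩ := exists_crdPt ϖ (f ≫ D.T.hom) x y (by rwa [cst_comp])
  let a : W ⟶ D.amb := pullback.lift f z hz.symm
  have hax : ∀ i, a.appTop (D.ambFn i) = z.appTop (crdFn ϖ i) := fun i => by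
    rw [Chart.ambFn, ← Γhom_apply, pullback.lift_snd]
  have hr : Set.range a ⊆ Set.range D.U.ι := by
    rintro _ ⟨w, rfl⟩
    rw [D.U.range_ι]
    have h1 : a ⁻¹ᵁ D.U = ⊤ := by rw [Chart.U, ← D.cond_comp, pullback.lift_fst, hax, hx, hc]
    exact h1.ge (show w ∈ (⊤ : W.Opens) from trivial)
  refine ⟨IsOpenImmersion.lift D.U.ι a hr, ?_, ?_, ?_⟩
  · rw [Chart.proj, IsOpenImmersion.lift_fac_assoc, pullback.lift_fst]
  · rw [Chart.fn, ← Γhom_apply, IsOpenImmersion.lift_fac, hax, hx]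
  · rw [Chart.fn, ← Γhom_apply, IsOpenImmersion.lift_fac, hax, hy]

theorem Chart.pt_ext {W : Scheme.{u}} (q q' : W ⟶ D.tot) (h : q ≫ D.proj = q' ≫ D.proj)
    (h₀ : q.appTop (D.fn 0) = q'.appTop (D.fn 0)) (h₁ : q.appTop (D.fn 1) = q'.appTop (D.fn 1)) : q = q' := by
  rw [← cancel_mono D.U.ι]
  refine pullback.hom_ext (by simpa [Chart.proj] using h) ?_
  refine crdPt_ext ϖ _ _ ?_ ?_ ?_
  · simp only [Category.assoc, ← pullback.condition]
    simpa [Chart.proj] using congrArg (· ≫ D.T.hom) h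
  · simpa only [Γhom_apply, Category.assoc, Chart.fn] using h₀
  · simpa only [Γhom_apply, Category.assoc, Chart.fn] using h₁

/-- A point has a good coordinate everywhere. -/
theorem Chart.pt_cond {W : Scheme.{u}} (q : W ⟶ D.tot) : D.cond (q ≫ D.proj) (q.appTop (D.fn 0)) = ⊤ := by
  rw [D.cond_comp, D.cond_fn]; rfl

theorem Chart.pt_eq {W : Scheme.{u}} (q : W ⟶ D.tot) :
    (q ≫ D.proj).appTop (cst D.T.hom ϖ) * q.appTop (D.fn 1) = q.appTop (D.fn 0) * (q.appTop (D.fn 0) - 1) := by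
  rw [Γhom_apply, ← map_mul, D.fn_eq]
  simp

end Groth.L11.BGaS
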