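import Groth.Agent.L11.BGaS.Torsor
import Groth.Agent.L11.ThetaAff.Inst

/-!
# The torsor on the punctured stack
-/

set_option autoImplicit false
set_option backward.isDefEq.respectTransparency false
set_option backward.isDefEq.respectTransparency.types false

universe u

open CategoryTheory CategoryTheory.Limits MonoidalCategory CartesianMonoidalCategory MonObj AlgebraicGeometry Opposite
open scoped TensorProduct
open Groth.L11.ThetaAff

noncomputable section

namespace Groth.L11.BGaS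

variable {R : Type u} [CommRing R] [IsNoetherianRing R] {ϖ : R}

/-- An object of the quotient. -/
abbrev QObj (ϖ : R) : Type (u + 1) :=
  AlgSt.QuotObj Scheme.fppfPrecoverage (ThetaS.Gm R) (ThetaS.stAction R ϖ)

theorem invariant_sFn : (ThetaS.stAction R ϖ).act.left ⁻¹ᵁ bopen (ThetaS.sFn R ϖ) =
    (snd (ThetaS.Gm R) (ThetaS.STSch R ϖ)).left ⁻¹ᵁ bopen (ThetaS.sFn R ϖ) := by
  obtain ⟨ψ, hψ, hs, -⟩ := stAction_point (π := ϖ) (K := ThetaS.Lau R ⊗[R] ThetaS.STRing R ϖ)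
    (Algebra.TensorProduct.includeLeft (S := R) : ThetaS.Lau R →ₐ[R] ThetaS.Lau R ⊗[R] ThetaS.STRing R ϖ)
    Algebra.TensorProduct.includeRight
  exact invariant_bopen _ ψ hψ _ 1 hs

theorem invariant_tFn : (ThetaS.stAction R ϖ).act.left ⁻¹ᵁ bopen (ThetaS.tFn R ϖ) =
    (snd (ThetaS.Gm R) (ThetaS.STSch R ϖ)).left ⁻¹ᵁ bopen (ThetaS.tFn R ϖ) := by
  obtain ⟨ψ, hψ, -, ht⟩ := stAction_point (π := ϖ) (K := ThetaS.Lau R ⊗[R] ThetaS.STRing R ϖ)
    (Algebra.TensorProduct.includeLeft (S := R) : ThetaS.Lau R →ₐ[R] ThetaS.Lau R ⊗[R] ThetaS.STRing R ϖ)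
    Algebra.TensorProduct.includeRight
  exact invariant_bopen _ ψ hψ _ (-1) ht

theorem isOpenMap_π (A : QObj ϖ) : IsOpenMap A.π.left := by
  haveI := isAffineHom_gm R
  haveI := flat_gm R
  haveI := lfp_gm R
  obtain ⟨h₁, h₂, -⟩ := torsor_fppf (ThetaS.stAction R ϖ) A
  exact (A.π.left).isOpenMap

theorem surjective_π (A : QObj ϖ) : Function.Surjective A.π.left :=
  (Groth.L24.Tors.surjective_torsor (ThetaS.stAction R ϖ) le_rfl A).surj

/-- The image of the locus where `φ` lands in an open. -/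
def imOpen (A : QObj ϖ) (V : (ThetaS.STSch R ϖ).left.Opens) : A.base.left.Opens :=
  ⟨A.π.left '' (A.φ.left ⁻¹ᵁ V : Set A.P.left), isOpenMap_π A _ (A.φ.left ⁻¹ᵁ V).isOpen⟩

theorem mem_of_mem_imOpen (A : QObj ϖ) {V : (ThetaS.STSch R ϖ).left.Opens}
    (hV : (ThetaS.stAction R ϖ).act.left ⁻¹ᵁ V = (snd (ThetaS.Gm R) (ThetaS.STSch R ϖ)).left ⁻¹ᵁ V)
    (p : A.P.left) (hp : A.π.left p ∈ imOpen A V) : A.φ.left p ∈ V := by
  obtain ⟨p', hp', he⟩ := hp
  obtain ⟨q, hq1, hq2⟩ :=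
    Scheme.exists_preimage_of_isPullback (A.cart.map (Over.forget _)) p' p he
  have e1 : (ThetaS.stAction R ϖ).act.left ((ThetaS.Gm R ◁ A.φ).left q) = A.φ.left p' := by
    rw [← hq1, ← Scheme.Hom.comp_apply, ← Over.comp_left, ← A.eqv]; rfl
  have e2 : (snd (ThetaS.Gm R) (ThetaS.STSch R ϖ)).left ((ThetaS.Gm R ◁ A.φ).left q) = A.φ.left p := by
    rw [← hq2, ← Scheme.Hom.comp_apply, ← Over.comp_left, whiskerLeft_snd]; rfl
  have : (ThetaS.Gm R ◁ A.φ).left q ∈ (ThetaS.stAction R ϖ).act.left ⁻¹ᵁ V := by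
    change (ThetaS.stAction R ϖ).act.left _ ∈ V
    rw [e1]; exact hp'
  rw [hV] at this
  change (snd (ThetaS.Gm R) (ThetaS.STSch R ϖ)).left _ ∈ V at this
  rwa [e2] at this

theorem imOpen_map {A B : QObj ϖ} (u : A ⟶ B) (V : (ThetaS.STSch R ϖ).left.Opens) :
    imOpen A V = u.base.left ⁻¹ᵁ imOpen B V := by
  ext x
  constructor
  · rintro ⟨p, hp, rfl⟩
    refine ⟨u.top.left p, ?_, ?_⟩
    · change B.φ.left (u.top.left p) ∈ V
      rw [← Scheme.Hom.comp_apply, ← Over.comp_left, u.wφ]; exact hp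
    · rw [← Scheme.Hom.comp_apply, ← Over.comp_left, u.cart.w]; rfl
  · rintro ⟨p, hp, he⟩
    obtain ⟨q, hq1, hq2⟩ := Scheme.exists_preimage_of_isPullback (u.cart.map (Over.forget _)) p x he
    refine ⟨q, ?_, hq2⟩
    change A.φ.left q ∈ V
    rw [← u.wφ, Over.comp_left, Scheme.Hom.comp_apply]
    exact hq1 ▸ hp

omit [IsNoetherianRing R] in
theorem preimage_bopen_eq {W : Scheme.{u}} (f : W ⟶ (ThetaS.STSch R ϖ).left) (a : ThetaS.STRing R ϖ) :
    f ⁻¹ᵁ bopen a = W.basicOpen (f.appTop (ThetaS.stFn a)) := Scheme.preimage_basicOpen_top _ _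

/-- The chart of an object missing the node. -/
def chart (A : QObj ϖ) (hA : ThetaS.MissesNode A) : Chart ϖ where
  T := A.base
  Ts := imOpen A (bopen (ThetaS.sFn R ϖ))
  Tt := imOpen A (bopen (ThetaS.tFn R ϖ))
  cover := top_le_iff.1 fun x _ => by
    obtain ⟨p, rfl⟩ := surjective_π A x
    have hm : p ∈ A.φ.left ⁻¹ᵁ bopen (ThetaS.sFn R ϖ) ⊔ A.φ.left ⁻¹ᵁ bopen (ThetaS.tFn R ϖ) := by
      rw [preimage_bopen_eq, preimage_bopen_eq]; exact hA.ge trivial
    rcases hm with hp | hp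
    · exact Or.inl ⟨p, hp, rfl⟩
    · exact Or.inr ⟨p, hp, rfl⟩
  inter := by
    rintro x ⟨hs, ht⟩
    obtain ⟨p, rfl⟩ := surjective_π A x
    have h1 := mem_of_mem_imOpen A invariant_sFn p hs
    have h2 := mem_of_mem_imOpen A invariant_tFn p ht
    have h3 : p ∈ A.P.left.basicOpen (A.φ.left.appTop (ThetaS.stFn (ThetaS.sFn R ϖ)) *
        A.φ.left.appTop (ThetaS.stFn (ThetaS.tFn R ϖ))) := by
      rw [Scheme.basicOpen_mul, ← preimage_bopen_eq, ← preimage_bopen_eq]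
      exact ⟨h1, h2⟩
    rw [← map_mul, show ThetaS.stFn (ThetaS.sFn R ϖ) * ThetaS.stFn (ThetaS.tFn R ϖ) =
      cst (ThetaS.STSch R ϖ).hom ϖ from ?_, ← cst_comp, Over.w, ← Over.w A.π, cst_comp,
      ← Scheme.preimage_basicOpen_top] at h3
    · exact h3
    · refine (map_mul (Scheme.ΓSpecIso (CommRingCat.of (ThetaS.STRing R ϖ))).inv.hom _ _).symm.trans
        ((congrArg _ (ThetaS.sFn_mul_tFn R ϖ)).trans ?_)
      exact congrArg (fun ψ => (ConcreteCategory.hom ψ) ϖ)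
        (Scheme.ΓSpecIso_inv_naturality (CommRingCat.ofHom (algebraMap R (ThetaS.STRing R ϖ))))

variable {S : Scheme.{u}} (h : Spec (CommRingCat.of R) ⟶ S)

/-- The chart morphism of a morphism. -/
def chartHom {A B : QObj ϖ} (hA : ThetaS.MissesNode A) (hB : ThetaS.MissesNode B) (u : A ⟶ B) :
    ChartHom (chart A hA) (chart B hB) where
  f := u.base
  hs := imOpen_map u _
  ht := imOpen_map u _

omit [IsNoetherianRing R] in
theorem top_comp {D'' D' D : Chart ϖ} (a : ChartHom D'' D') (b : ChartHom D' D) (c : ChartHom D'' D)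
    (e : c.f = a.f ≫ b.f) : c.top h = a.top h ≫ b.top h := by
  refine D.ext_pt h _ _ ?_ ?_ ?_
  · rw [Category.assoc, (b.top_spec h).1, reassoc_of% (a.top_spec h).1, (c.top_spec h).1, e, Functor.map_comp]
  · rw [b.xv]; exact (c.top_spec h).2.1.trans (a.top_spec h).2.1.symm
  · rw [b.yv]; exact (c.top_spec h).2.2.trans (a.top_spec h).2.2.symm

omit [IsNoetherianRing R] in
theorem top_id {D : Chart ϖ} (c : ChartHom D D) (e : c.f = 𝟙 _) : c.top h = 𝟙 _ := by
  refine D.ext_pt h _ _ ?_ ?_ ?_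
  · rw [(c.top_spec h).1, e, CategoryTheory.Functor.map_id, Category.comp_id, Category.id_comp]
  · exact (c.top_spec h).2.1.trans (by simp [Chart.xv])
  · exact (c.top_spec h).2.2.trans (by simp [Chart.yv])

/-- The torsor on the punctured stack. -/
def funct : ThetaS.stPunc Scheme.fppfPrecoverage R ϖ h ⥤ᵇ
    AlgSt.BG Scheme.fppfPrecoverage (Red.Ga S) where
  toFunctor :=
    { obj := fun A => (chart A.obj A.property).quot h
      map := fun {A B} u => (chartHom A.property B.property u.hom).quot h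
      map_id := fun A => AlgSt.QuotObj.hom_ext ((Over.map h).map_id _) (top_id h _ rfl)
      map_comp := fun u v => AlgSt.QuotObj.hom_ext ((Over.map h).map_comp _ _) (top_comp h _ _ _ rfl) }
  w := rfl

end Groth.L11.BGaS
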