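import Groth.Agent.L11.BGaS.Funct
import Groth.Agent.L11.BGaS.Alg

/-!
# `BG_a` is not S-complete
-/

set_option autoImplicit false
set_option backward.isDefEq.respectTransparency false
set_option backward.isDefEq.respectTransparency.types false

universe u

open CategoryTheory CategoryTheory.Limits MonoidalCategory CartesianMonoidalCategory MonObj AlgebraicGeometry Opposite
open Groth.L11.ThetaAff Groth.L24.St

noncomputable section

namespace Groth.L11.BGaS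

variable {R : Type u} [CommRing R] [IsDomain R] [IsDiscreteValuationRing R] {ϖ : R}

omit [IsDiscreteValuationRing R] in
theorem spec_span_eq_top {C : Type u} [CommRing C] {a b : C}
    (h : bopen a ⊔ bopen b = (⊤ : (Spec (CommRingCat.of C)).Opens)) : ∃ u v : C, u * a + v * b = 1 := by
  refine Ideal.mem_span_pair.1 ((Ideal.eq_top_iff_one _).1 (by_contra fun hne => ?_))
  obtain ⟨M, hM, hle⟩ := Ideal.exists_le_maximal _ hne
  have hm : (⟨M, hM.isPrime⟩ : PrimeSpectrum C) ∈ bopen a ⊔ bopen b := h.ge trivial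
  rw [bopen, bopen, basicOpen_eq_of_affine, basicOpen_eq_of_affine] at hm
  rcases hm with hm | hm
  · exact hm (hle (Ideal.subset_span (Or.inl rfl)))
  · exact hm (hle (Ideal.subset_span (Or.inr rfl)))

omit [IsDomain R] [IsDiscreteValuationRing R] in
theorem Chart.coords_s {D : Chart ϖ} {C : Type u} [CommRing C] (f : Spec (CommRingCat.of C) ⟶ D.T.left) (p x y : C)
    (hp : f.appTop (cst D.T.hom ϖ) = (Scheme.ΓSpecIso (CommRingCat.of C)).inv p)
    (hf : f ⁻¹ᵁ D.Ts = ⊤) (e : p * y = x * (x - 1))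
    (hc : D.cond f ((Scheme.ΓSpecIso (CommRingCat.of C)).inv x) = ⊤) :
    ∃ c, x = p * c + 1 := by
  have hx : bopen x ⊔ bopen p = ⊤ := top_le_iff.1 fun w hw => by
    rcases (show w ∈ D.cond f _ from hc.ge hw) with ⟨-, h⟩ | ⟨ht, -⟩
    · rw [hp] at h; exact h
    · refine Or.inr ?_
      have h2 : w ∈ f ⁻¹ᵁ D.T.left.basicOpen (cst D.T.hom ϖ) := D.inter ⟨hf.ge hw, ht⟩
      rwa [Scheme.preimage_basicOpen_top, hp] at h2
  obtain ⟨u, v, huv⟩ := spec_span_eq_top hx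
  exact ⟨u * y + v * (x - 1), by linear_combination (-(x - 1)) * huv - u * e⟩

omit [IsDomain R] [IsDiscreteValuationRing R] in
theorem Chart.coords_t {D : Chart ϖ} {C : Type u} [CommRing C] (f : Spec (CommRingCat.of C) ⟶ D.T.left) (p x y : C)
    (hp : f.appTop (cst D.T.hom ϖ) = (Scheme.ΓSpecIso (CommRingCat.of C)).inv p)
    (hf : f ⁻¹ᵁ D.Tt = ⊤) (e : p * y = x * (x - 1))
    (hc : D.cond f ((Scheme.ΓSpecIso (CommRingCat.of C)).inv x) = ⊤) :
    ∃ c, x = p * c := by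
  have hx : bopen (1 - x) ⊔ bopen p = ⊤ := top_le_iff.1 fun w hw => by
    rcases (show w ∈ D.cond f _ from hc.ge hw) with ⟨hs, -⟩ | ⟨-, h⟩
    · refine Or.inr ?_
      have h2 : w ∈ f ⁻¹ᵁ D.T.left.basicOpen (cst D.T.hom ϖ) := D.inter ⟨hs, hf.ge hw⟩
      rwa [Scheme.preimage_basicOpen_top, hp] at h2
    · rw [hp, ← map_one (Scheme.ΓSpecIso (CommRingCat.of C)).inv.hom, ← map_sub] at h; exact h
  obtain ⟨u, v, huv⟩ := spec_span_eq_top hx
  exact ⟨-(u * y) + v * x, by linear_combination (-x) * huv + u * e⟩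

variable (hϖ : Irreducible ϖ) {S : Scheme.{u}} (h : Spec (CommRingCat.of R) ⟶ S)

include hϖ in
theorem not_lifts :
    ¬ LiftSq.LiftsUniquely (ThetaS.stIncl Scheme.fppfPrecoverage R ϖ h)
      (FibCat.toSelf (AlgSt.BG Scheme.fppfPrecoverage (Red.Ga S))) := by
  intro hlu
  let sq : LiftSq.Sq (ThetaS.stIncl Scheme.fppfPrecoverage R ϖ h)
      (FibCat.toSelf (AlgSt.BG Scheme.fppfPrecoverage (Red.Ga S))) :=
    ⟨funct h, FibCat.toSelf _, Iso.refl _⟩
  obtain ⟨⟨d⟩, -⟩ := hlu sq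
  -- the universal objects
  let aX := ThetaS.stAction R ϖ
  let X := ThetaS.STSch R ϖ
  let U : X.left.Opens := bopen (ThetaS.sFn R ϖ) ⊔ bopen (ThetaS.tFn R ϖ)
  let incl : Over.mk (U.ι ≫ X.hom) ⟶ X := Over.homMk U.ι
  let A₀ : QObj ϖ := triv aX X (𝟙 X)
  let B₀ : QObj ϖ := triv aX (Over.mk (U.ι ≫ X.hom)) incl
  have hinv : aX.act.left ⁻¹ᵁ U = (snd (ThetaS.Gm R) X).left ⁻¹ᵁ U := by
    rw [Scheme.Hom.preimage_sup, Scheme.Hom.preimage_sup]
    exact congrArg₂ (· ⊔ ·) invariant_sFn invariant_tFn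
  have hB₀ : ThetaS.MissesNode B₀ := by
    haveI := isAffineHom_gm R
    haveI := flat_gm R
    haveI := lfp_gm R
    have hφ : B₀.φ.left ⁻¹ᵁ U = ⊤ := preimage_φ_triv aX hinv incl U.ι_preimage_self
    rw [Scheme.Hom.preimage_sup, preimage_bopen_eq, preimage_bopen_eq] at hφ
    exact hφ
  let B' : (ThetaS.stPunc Scheme.fppfPrecoverage R ϖ h).obj := ⟨B₀, hB₀⟩
  let i₀ : B₀ ⟶ A₀ := trivMap aX incl _ _ (Category.comp_id _)
  let D : Chart ϖ := chart B₀ hB₀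
  let Q₀ := d.fn.obj A₀
  let n₁ : D.quot h ⟶ d.fn.obj B₀ := d.isoTop.inv.toNatTrans.app B'
  let m : D.quot h ⟶ Q₀ := n₁ ≫ d.fn.map i₀
  have e₀ : Q₀.base = (Over.map h).obj X := d.fn.w_obj A₀
  let ε : Q₀.base.left ⟶ X.left := (eqToHom e₀).left
  haveI : IsIso ε := inferInstanceAs (IsIso ((Over.forget S).map (eqToHom e₀)))
  have hm : m.base.left ≫ ε = U.ι := by
    have h1 := (overId_app d.isoTop.inv B').eq
    obtain ⟨a, ha⟩ := h1
    change n₁.base = eqToHom a at ha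
    have h2 : (d.fn.map i₀).base = eqToHom (d.fn.w_obj B₀) ≫ (Over.map h).map incl ≫ eqToHom e₀.symm :=
      p_map_map d.fn i₀
    have e : m.base ≫ eqToHom e₀ = (Over.map h).map incl := by
      change (n₁.base ≫ (d.fn.map i₀).base) ≫ eqToHom e₀ = _
      rw [ha, h2]
      simp
    exact congrArg (fun f => f.left) e
  -- the node
  let κ := R ⧸ Ideal.span {ϖ}
  haveI : (Ideal.span {ϖ}).IsMaximal := hϖ.maximalIdeal_eq ▸ inferInstance
  letI : Field κ := Ideal.Quotient.field _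
  let ν : ThetaS.STRing R ϖ →ₐ[R] κ := ThetaS.stPt 0 0 (by
    rw [mul_zero]; exact (Ideal.Quotient.eq_zero_iff_mem.2 (Ideal.mem_span_singleton_self ϖ)).symm)
  let x₀ : X.left := (⟨RingHom.ker ν.toRingHom, RingHom.ker_isPrime _⟩ : PrimeSpectrum (ThetaS.STRing R ϖ))
  obtain ⟨Rc, hRc, hsec⟩ := Q₀.loc
  obtain ⟨ι', Y, f, rfl⟩ := Rc.exists_eq_ofArrows
  obtain ⟨hsurj, hfP⟩ := (Scheme.ofArrows_mem_precoverage_iff _).1 hRc
  obtain ⟨i, x', hx'⟩ := hsurj ((inv ε) x₀)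
  obtain ⟨σ, hσ⟩ := hsec (f i) ⟨i⟩
  change Y i ⟶ Q₀.P.left at σ
  change σ ≫ Q₀.π.left = f i at hσ
  obtain ⟨_, ⟨W', hW', rfl⟩, hx'W, -⟩ :=
    (Y i).isBasis_affineOpens.exists_subset_of_mem_open (Set.mem_univ x') isOpen_univ
  let C : Type u := Γ(Y i, W')
  let c : Spec (CommRingCat.of C) ⟶ X.left := hW'.fromSpec ≫ f i ≫ ε
  haveI : Flat (f i) := (hfP i).1
  haveI : Flat c := inferInstanceAs (Flat (hW'.fromSpec ≫ f i ≫ ε))
  let ψ : CommRingCat.of (ThetaS.STRing R ϖ) ⟶ CommRingCat.of C := Spec.preimage c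
  have hc : Spec.map ψ = c := Spec.map_preimage c
  have hψ : ψ.hom.Flat := (HasRingHomProperty.Spec_iff (P := @Flat)).1 (hc.symm ▸ inferInstance)
  let q : PrimeSpectrum C := hW'.primeIdealOf ⟨x', hx'W⟩
  have hq : c q = x₀ := by
    change (hW'.fromSpec ≫ f i ≫ ε) q = x₀
    rw [Scheme.Hom.comp_apply, Scheme.Hom.comp_apply, hW'.fromSpec_primeIdealOf]
    rw [hx', ← Scheme.Hom.comp_apply, IsIso.inv_hom_id]
    rfl
  have hker : ∀ b, ν b = 0 → ψ b ∈ q.asIdeal := fun b hb => by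
    rw [← hc] at hq
    exact (congrArg (fun p : PrimeSpectrum (ThetaS.STRing R ϖ) => b ∈ p.asIdeal) hq).mpr hb
  have hs : ψ (ThetaS.sFn R ϖ) ∈ q.asIdeal := hker _ (ThetaS.stPt_sFn _ _ _)
  have ht : ψ (ThetaS.tFn R ϖ) ∈ q.asIdeal := hker _ (ThetaS.stPt_tFn _ _ _)
  have hregB : ∀ y, algebraMap R (ThetaS.STRing R ϖ) ϖ * y = 0 → y = 0 := fun y hy => by
    rw [← ThetaS.sFn_mul_tFn, _root_.mul_assoc] at hy
    exact X_regular hϖ.ne_zero 1 _ (X_regular hϖ.ne_zero 0 _ hy)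
  let p : C := ψ (algebraMap R (ThetaS.STRing R ϖ) ϖ)
  have hreg : ∀ y : C, p * y = 0 → y = 0 := flat_regular ψ.hom hψ hregB
  -- points over the two opens
  let hl := m.cart.map (Over.forget S)
  have hpts : ∀ b ∈ ({ThetaS.sFn R ϖ, ThetaS.tFn R ϖ} : Set (ThetaS.STRing R ϖ)), ∀ (C' : Type u) [CommRing C']
      (j : C →+* C'), IsUnit (j (ψ b)) →
      ∃! r : Spec (CommRingCat.of C') ⟶ D.tot, r ≫ m.top.left = Spec.map (CommRingCat.ofHom j) ≫ hW'.fromSpec ≫ σ ∧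
        (r ≫ D.proj) ≫ U.ι = Spec.map (CommRingCat.ofHom j) ≫ c := by
    intro b hb C' _ j hu
    have hr : Set.range (Spec.map (CommRingCat.ofHom j) ≫ c) ⊆ Set.range U.ι := by
      rintro _ ⟨w, rfl⟩
      rw [U.range_ι]
      have h1 : (Spec.map (CommRingCat.ofHom j) ≫ c) ⁻¹ᵁ bopen b = ⊤ := by
        rw [← hc, Scheme.Hom.comp_preimage, show ψ = CommRingCat.ofHom ψ.hom from rfl, comap_bopen, comap_bopen,
          bopen, Scheme.basicOpen_of_isUnit]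
        exact hu.map _
      have h2 : bopen b ≤ U := by
        rcases hb with rfl | rfl
        exacts [le_sup_left, le_sup_right]
      exact h2 (h1.ge (show w ∈ (⊤ : (Spec (CommRingCat.of C')).Opens) from trivial))
    let a := IsOpenImmersion.lift U.ι (Spec.map (CommRingCat.ofHom j) ≫ c) hr
    have hcomm : (Spec.map (CommRingCat.ofHom j) ≫ hW'.fromSpec ≫ σ) ≫ Q₀.π.left = a ≫ m.base.left := by
      rw [← cancel_mono ε]
      simp only [Category.assoc, hm, reassoc_of% hσ]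
      exact (IsOpenImmersion.lift_fac U.ι _ hr).symm
    refine ⟨hl.lift _ a hcomm, ⟨hl.lift_fst _ _ _, ?_⟩, fun r hr' => hl.hom_ext ?_ ?_⟩
    · exact (congrArg (· ≫ U.ι) (hl.lift_snd _ _ hcomm)).trans (IsOpenImmersion.lift_fac _ _ _)
    · exact hr'.1.trans (hl.lift_fst _ _ _).symm
    · refine Eq.trans ?_ (hl.lift_snd _ _ hcomm).symm
      change r ≫ D.proj = a
      rw [← cancel_mono U.ι, hr'.2, IsOpenImmersion.lift_fac]
  -- their coordinates
  have hcoord : ∀ (C' : Type u) [CommRing C'] (j : C →+* C') (r : Spec (CommRingCat.of C') ⟶ D.tot),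
      (r ≫ D.proj) ≫ U.ι = Spec.map (CommRingCat.ofHom j) ≫ c →
      ∃ x y : C', r.appTop (D.fn 0) = (Scheme.ΓSpecIso (CommRingCat.of C')).inv x ∧
        (r ≫ D.proj).appTop (cst D.T.hom ϖ) = (Scheme.ΓSpecIso (CommRingCat.of C')).inv (j p) ∧
        j p * y = x * (x - 1) ∧ D.cond (r ≫ D.proj) ((Scheme.ΓSpecIso (CommRingCat.of C')).inv x) = ⊤ := by
    intro C' _ j r hr
    let e := Scheme.ΓSpecIso (CommRingCat.of C')
    have hinv : ∀ z, e.inv (e.hom z) = z := fun z => by rw [← ConcreteCategory.comp_apply, e.hom_inv_id]; rfl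
    have hp : (r ≫ D.proj).appTop (cst D.T.hom ϖ) = e.inv (j p) := by
      rw [← cst_comp, show D.T.hom = U.ι ≫ X.hom from rfl, ← Category.assoc, hr, ← hc, ← Spec.map_comp]
      have : X.hom = Spec.map (CommRingCat.ofHom (algebraMap R (ThetaS.STRing R ϖ))) := rfl
      rw [this, ← Spec.map_comp]
      exact (congrArg (fun t : CommRingCat.of R ⟶ Γ(Spec (CommRingCat.of C'), ⊤) => t ϖ) (Scheme.ΓSpecIso_inv_naturality (CommRingCat.ofHom (algebraMap R (ThetaS.STRing R ϖ)) ≫ ψ ≫ CommRingCat.ofHom j))).symm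
    refine ⟨e.hom (r.appTop (D.fn 0)), e.hom (r.appTop (D.fn 1)), (hinv _).symm, hp, ?_, ?_⟩
    · apply (ConcreteCategory.bijective_of_isIso e.inv).1
      rw [map_mul, map_mul, map_sub, map_one, hinv, hinv, ← hp]
      exact D.pt_eq r
    · rw [hinv]; exact D.pt_cond r
  let Cs := Localization.Away (ψ (ThetaS.sFn R ϖ))
  let Ct := Localization.Away (ψ (ThetaS.tFn R ϖ))
  let Cst := Localization.Away (ψ (ThetaS.sFn R ϖ) * ψ (ThetaS.tFn R ϖ))
  let js : C →+* Cs := algebraMap C Cs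
  let jt : C →+* Ct := algebraMap C Ct
  let jst : C →+* Cst := algebraMap C Cst
  have u0 : IsUnit (jst (ψ (ThetaS.sFn R ϖ)) * jst (ψ (ThetaS.tFn R ϖ))) := by
    have h0 : IsUnit (jst (ψ (ThetaS.sFn R ϖ) * ψ (ThetaS.tFn R ϖ))) := IsLocalization.Away.algebraMap_isUnit _
    rwa [map_mul] at h0
  have us : IsUnit (jst (ψ (ThetaS.sFn R ϖ))) :=
    isUnit_of_mul_isUnit_left (y := jst (ψ (ThetaS.tFn R ϖ))) u0
  have ut : IsUnit (jst (ψ (ThetaS.tFn R ϖ))) :=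
    isUnit_of_mul_isUnit_right (x := jst (ψ (ThetaS.sFn R ϖ))) u0
  let ks : Cs →+* Cst := IsLocalization.Away.lift (ψ (ThetaS.sFn R ϖ)) us
  let kt : Ct →+* Cst := IsLocalization.Away.lift (ψ (ThetaS.tFn R ϖ)) ut
  have hks : ks.comp js = jst := IsLocalization.Away.lift_comp _ _
  have hkt : kt.comp jt = jst := IsLocalization.Away.lift_comp _ _
  obtain ⟨rs, ⟨hrs, hrs'⟩, -⟩ := hpts _ (Or.inl rfl) Cs js (IsLocalization.Away.algebraMap_isUnit _)
  obtain ⟨rt, ⟨hrt, hrt'⟩, -⟩ := hpts _ (Or.inr rfl) Ct jt (IsLocalization.Away.algebraMap_isUnit _)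
  obtain ⟨rst, -, huniq⟩ := hpts _ (Or.inl rfl) Cst jst us
  have hagree : Spec.map (CommRingCat.ofHom ks) ≫ rs = Spec.map (CommRingCat.ofHom kt) ≫ rt := by
    refine (huniq _ ⟨?_, ?_⟩).trans (huniq _ ⟨?_, ?_⟩).symm
    · rw [Category.assoc, hrs, ← Spec.map_comp_assoc, ← CommRingCat.ofHom_comp, hks]
    · rw [Category.assoc, Category.assoc, ← Category.assoc rs, hrs', ← Spec.map_comp_assoc, ← CommRingCat.ofHom_comp, hks]
    · rw [Category.assoc, hrt, ← Spec.map_comp_assoc, ← CommRingCat.ofHom_comp, hkt]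
    · rw [Category.assoc, Category.assoc, ← Category.assoc rt, hrt', ← Spec.map_comp_assoc, ← CommRingCat.ofHom_comp, hkt]
  have hTs : ∀ b, ∀ (C' : Type u) [CommRing C'] (j : C →+* C') (r : Spec (CommRingCat.of C') ⟶ D.tot),
      IsUnit (j (ψ b)) → (r ≫ D.proj) ≫ U.ι = Spec.map (CommRingCat.ofHom j) ≫ c →
      aX.act.left ⁻¹ᵁ bopen b = (snd (ThetaS.Gm R) X).left ⁻¹ᵁ bopen b →
      (r ≫ D.proj) ⁻¹ᵁ imOpen B₀ (bopen b) = ⊤ := by
    intro b C' _ j r hu hr hb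
    refine top_le_iff.1 fun w _ => ?_
    obtain ⟨z, hz⟩ := surjective_π B₀ ((r ≫ D.proj) w)
    refine ⟨z, ?_, hz⟩
    change z ∈ B₀.φ.left ⁻¹ᵁ bopen b
    have hφ : B₀.φ.left ⁻¹ᵁ bopen b = B₀.π.left ⁻¹ᵁ (U.ι ⁻¹ᵁ bopen b) := by
      rw [triv_φ, Over.comp_left, Scheme.Hom.comp_preimage, hb, ← Scheme.Hom.comp_preimage, ← Over.comp_left,
        whiskerLeft_snd, Over.comp_left, Scheme.Hom.comp_preimage]
      rfl
    rw [hφ]
    change U.ι (B₀.π.left z) ∈ bopen b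
    rw [hz]
    change ((r ≫ D.proj) ≫ U.ι) w ∈ bopen b
    rw [hr, ← hc, ← Spec.map_comp]
    have h1 : Spec.map (ψ ≫ CommRingCat.ofHom j) ⁻¹ᵁ bopen b = ⊤ := by
      rw [show ψ ≫ CommRingCat.ofHom j = CommRingCat.ofHom (j.comp ψ.hom) from rfl, comap_bopen, bopen,
        Scheme.basicOpen_of_isUnit]
      exact hu.map _
    exact h1.ge (show w ∈ (⊤ : (Spec (CommRingCat.of C')).Opens) from trivial)
  obtain ⟨xs, ys, hxs, hps, hes, hcs⟩ := hcoord Cs js rs hrs'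
  obtain ⟨xt, yt, hxt, hpt, het, hct⟩ := hcoord Ct jt rt hrt'
  obtain ⟨c₁, hc₁⟩ := Chart.coords_s (rs ≫ D.proj) (js p) xs ys hps
    (hTs _ Cs js rs (IsLocalization.Away.algebraMap_isUnit _) hrs' invariant_sFn) hes hcs
  obtain ⟨c₂, hc₂⟩ := Chart.coords_t (rt ≫ D.proj) (jt p) xt yt hpt
    (hTs _ Ct jt rt (IsLocalization.Away.algebraMap_isUnit _) hrt' invariant_tFn) het hct
  have hx : ks xs = kt xt := by
    apply (ConcreteCategory.bijective_of_isIso (Scheme.ΓSpecIso (CommRingCat.of Cst)).inv).1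
    have := congrArg (fun r => r.appTop (D.fn 0)) hagree
    simp only [Γhom_apply, hxs, hxt] at this
    refine Eq.trans ?_ (this.trans ?_)
    · exact congrArg (fun t => (ConcreteCategory.hom t) xs) (Scheme.ΓSpecIso_inv_naturality (CommRingCat.ofHom ks))
    · exact (congrArg (fun t => (ConcreteCategory.hom t) xt) (Scheme.ΓSpecIso_inv_naturality (CommRingCat.ofHom kt))).symm
  rw [hc₁, hc₂, map_add, map_mul, map_mul, map_one, ← RingHom.comp_apply ks, hks, ← RingHom.comp_apply kt, hkt] at hx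
  obtain ⟨n₁', u, hu⟩ := IsLocalization.Away.surj (ψ (ThetaS.sFn R ϖ)) c₁
  obtain ⟨n₂', v, hv⟩ := IsLocalization.Away.surj (ψ (ThetaS.tFn R ϖ)) c₂
  have hu' : ks c₁ * jst (ψ (ThetaS.sFn R ϖ)) ^ n₁' = jst u := by
    have := congrArg ks hu
    rwa [map_mul, map_pow, ← RingHom.comp_apply ks (algebraMap C Cs), ← RingHom.comp_apply ks (algebraMap C Cs),
      hks] at this
  have hv' : kt c₂ * jst (ψ (ThetaS.tFn R ϖ)) ^ n₂' = jst v := by
    have := congrArg kt hv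
    rwa [map_mul, map_pow, ← RingHom.comp_apply kt (algebraMap C Ct), ← RingHom.comp_apply kt (algebraMap C Ct),
      hkt] at this
  refine no_cocycle hϖ ψ.hom hψ hreg q.asIdeal hs ht (u * ψ (ThetaS.sFn R ϖ) ^ (n₂' + 1))
    (v * ψ (ThetaS.tFn R ϖ) ^ (n₁' + 1)) (n₁' + n₂') ?_
  have hinj : Function.Injective jst := by
    refine IsLocalization.injective Cst (M := Submonoid.powers (ψ (ThetaS.sFn R ϖ) * ψ (ThetaS.tFn R ϖ))) ?_
    rw [Submonoid.powers_le, ← map_mul, ThetaS.sFn_mul_tFn]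
    exact mem_nonZeroDivisors_iff.2 ⟨hreg, fun y hy => hreg y (by rwa [mul_comm])⟩
  apply hinj
  change jst (p * (u * ψ (ThetaS.sFn R ϖ) ^ (n₂' + 1) * ψ (ThetaS.tFn R ϖ) ^ (n₁' + n₂' + 1)) +
      (ψ (ThetaS.sFn R ϖ) * ψ (ThetaS.tFn R ϖ)) ^ (n₁' + n₂' + 1)) =
    jst (p * (v * ψ (ThetaS.tFn R ϖ) ^ (n₁' + 1) * ψ (ThetaS.sFn R ϖ) ^ (n₁' + n₂' + 1)))
  simp only [map_add, map_mul, map_pow, ← hu', ← hv', pow_succ, pow_add, mul_pow]
  linear_combination (jst (ψ (ThetaS.sFn R ϖ)) ^ n₁' * jst (ψ (ThetaS.sFn R ϖ)) ^ n₂' * jst (ψ (ThetaS.sFn R ϖ)) *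
    (jst (ψ (ThetaS.tFn R ϖ)) ^ n₁' * jst (ψ (ThetaS.tFn R ϖ)) ^ n₂' * jst (ψ (ThetaS.tFn R ϖ)))) * hx

end Groth.L11.BGaS
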