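import Groth.Agent.L11.BGaS.Chart

/-!
# The torsor of a chart
-/

set_option autoImplicit false
set_option backward.isDefEq.respectTransparency false
set_option backward.isDefEq.respectTransparency.types false

universe u

open CategoryTheory CategoryTheory.Limits MonoidalCategory CartesianMonoidalCategory MonObj AlgebraicGeometry Opposite

noncomputable section

namespace Groth.L11.BGaS

theorem isUnit_add_mul {A : Type u} [CommRing A] [IsLocalRing A] {p x g : A} (hp : ¬ IsUnit p) :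
    IsUnit (x + p * g) ↔ IsUnit x := by
  have h1 : p * g ∈ IsLocalRing.maximalIdeal A := Ideal.mul_mem_right _ _ hp
  rw [← IsLocalRing.notMem_maximalIdeal, ← IsLocalRing.notMem_maximalIdeal, Ideal.add_mem_iff_left _ h1]

theorem sup_bo_add {W : Scheme.{u}} (x g p : Γ(W, ⊤)) :
    W.basicOpen (x + p * g) ⊔ W.basicOpen p = W.basicOpen x ⊔ W.basicOpen p := by
  ext w
  by_cases hp : w ∈ W.basicOpen p
  · exact iff_of_true (Or.inr hp) (Or.inr hp)
  · change _ ∨ _ ↔ _ ∨ _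
    refine or_congr ?_ Iff.rfl
    simp only [SetLike.mem_coe, mem_bo, map_add, map_mul]
    exact isUnit_add_mul fun h => hp (mem_bo.2 h)

theorem combine_one {A B : Type u} [CommRing A] [CommRing B] (γ : A →+* B) (I : Ideal B) {x y : A}
    (a : γ x - 1 ∈ I) (b : γ y - 1 ∈ I) : γ (x + y - 1) - 1 ∈ I := by
  convert add_mem a b using 1
  rw [map_sub, map_add, map_one]; ring

theorem combine_zero {A B : Type u} [CommRing A] [CommRing B] (γ : A →+* B) (I : Ideal B) {x y : A}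
    (a : γ x ∈ I) (b : γ y ∈ I) : γ (x + y - 1) + 1 ∈ I := by
  convert add_mem a b using 1
  rw [map_sub, map_add, map_one]; ring

variable {R : Type u} [CommRing R] {ϖ : R} {S : Scheme.{u}} (h : Spec (CommRingCat.of R) ⟶ S) (D : Chart ϖ)

theorem Chart.cond_add {W : Scheme.{u}} (f : W ⟶ D.T.left) (x g : Γ(W, ⊤)) :
    D.cond f (x + f.appTop (cst D.T.hom ϖ) * g) = D.cond f x := by
  rw [Chart.cond, Chart.cond, sup_bo_add,
    show 1 - (x + f.appTop (cst D.T.hom ϖ) * g) = (1 - x) + f.appTop (cst D.T.hom ϖ) * (-g) by ring, sup_bo_add]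

/-- The base over `S`. -/
abbrev Chart.base : Over S := (Over.map h).obj D.T

/-- The total space over `S`. -/
abbrev Chart.P : Over S := Over.mk (D.proj ≫ D.T.hom ≫ h)

/-- The projection over `S`. -/
def Chart.π : D.P h ⟶ D.base h := Over.homMk D.proj (by simp [Chart.base, Chart.P])

/-- `ϖ` along a point. -/
abbrev Chart.pv {W : Over S} (q : W ⟶ D.P h) : Γ(W.left, ⊤) := (q.left ≫ D.proj).appTop (cst D.T.hom ϖ)

/-- The abscissa of a point. -/
abbrev Chart.xv {W : Over S} (q : W ⟶ D.P h) : Γ(W.left, ⊤) := q.left.appTop (D.fn 0)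

/-- The ordinate of a point. -/
abbrev Chart.yv {W : Over S} (q : W ⟶ D.P h) : Γ(W.left, ⊤) := q.left.appTop (D.fn 1)

theorem Chart.xv_comp {W' W : Over S} (a : W' ⟶ W) (q : W ⟶ D.P h) :
    D.xv h (a ≫ q) = a.left.appTop (D.xv h q) := Γhom_apply _ _ _

theorem Chart.yv_comp {W' W : Over S} (a : W' ⟶ W) (q : W ⟶ D.P h) :
    D.yv h (a ≫ q) = a.left.appTop (D.yv h q) := Γhom_apply _ _ _

theorem Chart.pv_comp {W' W : Over S} (a : W' ⟶ W) (q : W ⟶ D.P h) :
    D.pv h (a ≫ q) = a.left.appTop (D.pv h q) := by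
  rw [Chart.pv, Chart.pv, Over.comp_left, Category.assoc]; exact Γhom_apply _ _ _

theorem Chart.ext_pt {W : Over S} (q q' : W ⟶ D.P h) (e : q ≫ D.π h = q' ≫ D.π h)
    (hx : D.xv h q = D.xv h q') (hy : D.yv h q = D.yv h q') : q = q' :=
  Over.OverMorphism.ext (D.pt_ext _ _ (congrArg (fun t => t.left) e) hx hy)

local notation "G" => Red.Ga S

theorem Chart.exists_shift {W : Over S} (t : W ⟶ G) (q : W ⟶ D.P h) :
    ∃ q' : W ⟶ D.P h, q' ≫ D.π h = q ≫ D.π h ∧ D.xv h q' = D.xv h q + D.pv h q * Red.gaFn t ∧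
      D.yv h q' = D.yv h q + Red.gaFn t * (2 * D.xv h q - 1) + D.pv h q * Red.gaFn t ^ 2 := by
  obtain ⟨a, ha, hx, hy⟩ := D.exists_pt (q.left ≫ D.proj) (D.xv h q + D.pv h q * Red.gaFn t)
    (D.yv h q + Red.gaFn t * (2 * D.xv h q - 1) + D.pv h q * Red.gaFn t ^ 2)
    (by linear_combination D.pt_eq q.left)
    ((D.cond_add _ _ _).trans (D.pt_cond q.left))
  refine ⟨Over.homMk a ?_, Over.OverMorphism.ext ha, hx, hy⟩
  simp only [Over.mk_hom, reassoc_of% ha]
  exact Over.w q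

/-- The translation. -/
def Chart.shift {W : Over S} (t : W ⟶ G) (q : W ⟶ D.P h) : W ⟶ D.P h := (D.exists_shift h t q).choose

theorem Chart.shift_spec {W : Over S} (t : W ⟶ G) (q : W ⟶ D.P h) :
    D.shift h t q ≫ D.π h = q ≫ D.π h ∧ D.xv h (D.shift h t q) = D.xv h q + D.pv h q * Red.gaFn t ∧
      D.yv h (D.shift h t q) = D.yv h q + Red.gaFn t * (2 * D.xv h q - 1) + D.pv h q * Red.gaFn t ^ 2 :=
  (D.exists_shift h t q).choose_spec

attribute [irreducible] Chart.shift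

theorem Chart.comp_shift {W' W : Over S} (a : W' ⟶ W) (t : W ⟶ G) (q : W ⟶ D.P h) :
    a ≫ D.shift h t q = D.shift h (a ≫ t) (a ≫ q) := by
  obtain ⟨h1, h2, h3⟩ := D.shift_spec h t q
  obtain ⟨k1, k2, k3⟩ := D.shift_spec h (a ≫ t) (a ≫ q)
  refine D.ext_pt h _ _ ?_ ?_ ?_
  · rw [Category.assoc, h1, k1, Category.assoc]
  · rw [D.xv_comp, h2, k2, D.xv_comp, D.pv_comp, Groth.L25.GaPts.gaFn_comp]
    simp only [map_add, map_mul]
  · rw [D.yv_comp, h3, k3, D.yv_comp, D.xv_comp, D.pv_comp, Groth.L25.GaPts.gaFn_comp]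
    simp only [map_add, map_mul, map_sub, map_one, map_pow, map_ofNat]

theorem Chart.pv_shift {W : Over S} (t : W ⟶ G) (q : W ⟶ D.P h) : D.pv h (D.shift h t q) = D.pv h q :=
  by
  have e : (D.shift h t q).left ≫ D.proj = q.left ≫ D.proj :=
    congrArg (fun f => f.left) (D.shift_spec h t q).1
  rw [Chart.pv, Chart.pv, e]

theorem Chart.shift_one {W : Over S} (q : W ⟶ D.P h) : D.shift h 1 q = q := by
  obtain ⟨h1, h2, h3⟩ := D.shift_spec h 1 q
  rw [Groth.L25.GaPts.gaFn_one] at h2 h3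
  refine D.ext_pt h _ _ h1 ?_ ?_ <;> simp [h2, h3]

theorem Chart.shift_shift {W : Over S} (t t' : W ⟶ G) (q : W ⟶ D.P h) :
    D.shift h t (D.shift h t' q) = D.shift h (t * t') q := by
  obtain ⟨h1, h2, h3⟩ := D.shift_spec h t (D.shift h t' q)
  obtain ⟨k1, k2, k3⟩ := D.shift_spec h t' q
  obtain ⟨l1, l2, l3⟩ := D.shift_spec h (t * t') q
  rw [D.pv_shift, k2] at h2
  rw [D.pv_shift, k2, k3] at h3
  rw [Groth.L25.GaPts.gaFn_mul] at l2 l3
  refine D.ext_pt h _ _ (h1.trans (k1.trans l1.symm)) ?_ ?_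
  · rw [h2, l2]; ring
  · rw [h3, l3]; ring

/-- The action. -/
def Chart.act : AlgGrp.Action G (D.P h) where
  act := D.shift h (fst G (D.P h)) (snd G (D.P h))
  one_act := by
    rw [D.comp_shift, whiskerRight_fst, toUnit_unique (fst _ _) (toUnit _), ← Hom.one_def, D.shift_one,
      whiskerRight_snd, leftUnitor_hom]
  mul_act := by
    have hμ : fst (G ⊗ G) (D.P h) ≫ μ[G] = (fst _ _ ≫ fst G G) * (fst _ _ ≫ snd G G) := by
      rw [Hom.mul_def, ← comp_lift, lift_fst_snd, Category.comp_id]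
    rw [D.comp_shift, D.comp_shift, whiskerRight_fst, whiskerRight_snd, whiskerLeft_fst, whiskerLeft_snd, hμ,
      D.comp_shift, associator_hom_fst]
    rw [D.comp_shift, D.comp_shift, associator_hom_snd_fst, associator_hom_snd_snd, D.shift_shift]

theorem Chart.lift_act {W : Over S} (t : W ⟶ G) (q : W ⟶ D.P h) :
    lift t q ≫ (D.act h).act = D.shift h t q := by
  rw [Chart.act, D.comp_shift, lift_fst, lift_snd]

theorem Chart.act_π : (D.act h).act ≫ D.π h = snd G (D.P h) ≫ D.π h := (D.shift_spec h _ _).1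

theorem Chart.existsUnique_shift {W : Over S} (p q : W ⟶ D.P h) (e : p ≫ D.π h = q ≫ D.π h) :
    ∃! t : W ⟶ G, D.shift h t q = p := by
  have e' : p.left ≫ D.proj = q.left ≫ D.proj := congrArg (fun f => f.left) e
  have hP := D.pt_eq p.left
  rw [e'] at hP
  have hQ := D.pt_eq q.left
  -- `ϖ` and `x_p + x_q - 1` have no common zero
  have hcov : W.left.basicOpen (D.pv h q) ⊔ W.left.basicOpen (D.xv h p + D.xv h q - 1) = ⊤ := by
    refine top_le_iff.1 fun w _ => ?_
    by_cases hπ : w ∈ W.left.basicOpen (D.pv h q)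
    · exact Or.inl hπ
    refine Or.inr (mem_bo.2 ?_)
    have hnb : ¬ IsUnit (W.left.presheaf.germ ⊤ w trivial (D.pv h q)) := fun hu => hπ (mem_bo.2 hu)
    have hns : ¬ ((q.left ≫ D.proj) w ∈ D.Ts ∧ (q.left ≫ D.proj) w ∈ D.Tt) := fun hst => by
      have := D.inter hst
      exact hπ ((Scheme.preimage_basicOpen_top (q.left ≫ D.proj) (cst D.T.hom ϖ)).le this)
    have hcq : w ∈ D.cond (q.left ≫ D.proj) (D.xv h q) := (D.pt_cond q.left).ge trivial
    have hcp : w ∈ D.cond (q.left ≫ D.proj) (D.xv h p) := e' ▸ (D.pt_cond p.left).ge trivial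
    let A := W.left.presheaf.stalk w
    let γ : Γ(W.left, ⊤) →+* A := (W.left.presheaf.germ ⊤ w trivial).hom
    have hγ : γ (D.pv h q) ∈ IsLocalRing.maximalIdeal A := hnb
    -- `x ∈ {0, 1}` in the residue field
    have key : ∀ x y, D.pv h q * y = x * (x - 1) →
        ((IsUnit (γ x) → γ x - 1 ∈ IsLocalRing.maximalIdeal A) ∧
          (IsUnit (γ (1 - x)) → γ x ∈ IsLocalRing.maximalIdeal A)) := fun x y hxy => by
      have h1 : γ x * (γ x - 1) ∈ IsLocalRing.maximalIdeal A := by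
        rw [← map_one γ, ← map_sub, ← map_mul, ← hxy, map_mul]
        exact Ideal.mul_mem_right _ _ hγ
      refine ⟨fun hu => (Ideal.unit_mul_mem_iff_mem _ hu).1 h1, fun hu => ?_⟩
      rw [map_sub, map_one, ← neg_sub, IsUnit.neg_iff] at hu
      exact (Ideal.mul_unit_mem_iff_mem _ hu).1 h1
    have main : γ (D.xv h p + D.xv h q - 1) - 1 ∈ IsLocalRing.maximalIdeal A ∨
        γ (D.xv h p + D.xv h q - 1) + 1 ∈ IsLocalRing.maximalIdeal A := by
      rcases hcq with ⟨hs, hx⟩ | ⟨ht, hx⟩ <;> rcases hcp with ⟨hs', hx'⟩ | ⟨ht', hx'⟩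
      · have a := (key _ _ hQ).1 (mem_bo.1 (hx.resolve_right hπ))
        have b := (key _ _ hP).1 (mem_bo.1 (hx'.resolve_right hπ))
        exact Or.inl (combine_one γ _ b a)
      · exact absurd ⟨hs, ht'⟩ hns
      · exact absurd ⟨hs', ht⟩ hns
      · have a := (key _ _ hQ).2 (mem_bo.1 (hx.resolve_right hπ))
        have b := (key _ _ hP).2 (mem_bo.1 (hx'.resolve_right hπ))
        exact Or.inr (combine_zero γ _ b a)
    refine IsLocalRing.notMem_maximalIdeal.1 fun hbad => ?_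
    refine (IsLocalRing.maximalIdeal.isMaximal A).ne_top ((Ideal.eq_top_iff_one _).2 ?_)
    rcases main with hm | hm
    · convert sub_mem hbad hm using 1
      ring
    · convert sub_mem hm hbad using 1
      ring
  obtain ⟨g, hg, hg'⟩ := exists_quot (c := D.xv h p - D.xv h q) (e := D.yv h p - D.yv h q) hcov
    (by linear_combination hQ - hP)
  obtain ⟨s1, s2, s3⟩ := D.shift_spec h (Groth.L25.GaPts.ptOfElt g) q
  rw [Groth.L25.GaPts.gaFn_ptOfElt] at s2 s3
  refine ⟨Groth.L25.GaPts.ptOfElt g, D.ext_pt h _ _ (s1.trans e.symm) ?_ ?_, fun t ht => ?_⟩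
  · rw [s2, hg]; ring
  · rw [s3]; linear_combination hg' + g * hg
  · apply Groth.L25.GaPts.gaFn_injective
    change Red.gaFn t = Red.gaFn (Groth.L25.GaPts.ptOfElt g)
    rw [Groth.L25.GaPts.gaFn_ptOfElt]
    obtain ⟨r1, r2, r3⟩ := D.shift_spec h t q
    rw [ht] at r1 r2 r3
    refine sub_eq_zero.1 (eq_zero_of_cover hcov ?_ ?_)
    · linear_combination -r2 - hg
    · linear_combination -r3 - hg' + Red.gaFn t * r2

theorem Chart.isPullback_act : IsPullback (D.act h).act (snd G (D.P h)) (D.π h) (D.π h) := by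
  refine ⟨⟨D.act_π h⟩, ⟨PullbackCone.IsLimit.mk _
    (fun c => lift (D.existsUnique_shift h c.fst c.snd c.condition).choose c.snd) (fun c => ?_) (fun c => lift_snd _ _)
    fun c m h₁ h₂ => ?_⟩⟩
  · rw [D.lift_act]; exact (D.existsUnique_shift h c.fst c.snd c.condition).choose_spec.1
  · apply CartesianMonoidalCategory.hom_ext
    · rw [lift_fst]
      refine (D.existsUnique_shift h c.fst c.snd c.condition).choose_spec.2 _ ?_
      change D.shift h (m ≫ fst G (D.P h)) c.snd = c.fst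
      rw [← h₁, ← h₂, ← D.comp_shift]
      rfl
    · rw [lift_snd, h₂]

theorem Chart.exists_section (U : D.T.left.Opens) (x : Bool)
    (hU : U ≤ _root_.cond x D.Ts D.Tt) : ∃ s : (U : Scheme.{u}) ⟶ D.tot, s ≫ D.proj = U.ι ∧
      s.appTop (D.fn 0) = (if x then 1 else 0) := by
  obtain ⟨q, h1, h2, -⟩ := D.exists_pt U.ι (if x then 1 else 0) 0 (by cases x <;> simp) (by
    refine top_le_iff.1 fun w _ => ?_
    cases x
    · exact Or.inr ⟨hU w.2, Or.inl (mem_bo.2 (by simp))⟩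
    · exact Or.inl ⟨hU w.2, Or.inl (mem_bo.2 (by simp))⟩)
  exact ⟨q, h1, h2⟩

theorem Chart.locTriv :
    NonAbH1.IsLocallyTrivialFor Scheme.fppfPrecoverage (Over.mk (D.π h).left : Over (D.base h).left) := by
  refine ⟨Presieve.ofArrows (fun b : Bool => ((_root_.cond b D.Ts D.Tt : D.T.left.Opens) : Scheme.{u}))
    (fun b => (_root_.cond b D.Ts D.Tt).ι), (Scheme.ofArrows_mem_precoverage_iff _).2 ⟨fun x => ?_, fun b => ⟨inferInstance, inferInstance⟩⟩, ?_⟩
  · rcases (show x ∈ D.Ts ⊔ D.Tt from D.cover.ge trivial) with hx | hx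
    · exact ⟨true, ⟨x, hx⟩, rfl⟩
    · exact ⟨false, ⟨x, hx⟩, rfl⟩
  · rintro S' f ⟨b⟩
    obtain ⟨s, hs, -⟩ := D.exists_section (_root_.cond b D.Ts D.Tt) b le_rfl
    exact ⟨s, hs⟩

/-- The object of `BG`. -/
def Chart.quot : AlgSt.QuotObj Scheme.fppfPrecoverage G (AlgSt.trivAction G) where
  base := D.base h
  P := D.P h
  act := D.act h
  π := D.π h
  cart := D.isPullback_act h
  loc := D.locTriv h
  φ := toUnit _
  eqv := toUnit_unique _ _

/-- Morphisms of charts. -/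
structure ChartHom (D' D : Chart ϖ) where
  f : D'.T ⟶ D.T
  hs : D'.Ts = f.left ⁻¹ᵁ D.Ts
  ht : D'.Tt = f.left ⁻¹ᵁ D.Tt

variable {D} {D' : Chart ϖ} (u : ChartHom D' D)

theorem ChartHom.cond_eq {W : Scheme.{u}} (a : W ⟶ D'.T.left) (x : Γ(W, ⊤)) :
    D.cond (a ≫ u.f.left) x = D'.cond a x := by
  rw [Chart.cond, Chart.cond, u.hs, u.ht, Γhom_apply, ← cst_comp, Over.w, Scheme.Hom.comp_preimage,
    Scheme.Hom.comp_preimage]

theorem ChartHom.exists_top : ∃ q : D'.tot ⟶ D.tot, q ≫ D.proj = D'.proj ≫ u.f.left ∧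
    q.appTop (D.fn 0) = D'.fn 0 ∧ q.appTop (D.fn 1) = D'.fn 1 :=
  D.exists_pt _ _ _ (by rw [Γhom_apply, ← cst_comp, Over.w]; exact D'.fn_eq) ((u.cond_eq _ _).trans D'.cond_fn)

/-- The map of total spaces. -/
def ChartHom.top : D'.P h ⟶ D.P h :=
  Over.homMk u.exists_top.choose (by
    simp only [Over.mk_hom, reassoc_of% u.exists_top.choose_spec.1, Over.w_assoc])

theorem ChartHom.top_spec : u.top h ≫ D.π h = D'.π h ≫ (Over.map h).map u.f ∧
    (u.top h).left.appTop (D.fn 0) = D'.fn 0 ∧ (u.top h).left.appTop (D.fn 1) = D'.fn 1 :=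
  ⟨Over.OverMorphism.ext u.exists_top.choose_spec.1, u.exists_top.choose_spec.2⟩

attribute [irreducible] ChartHom.top

theorem ChartHom.xv {W : Over S} (q : W ⟶ D'.P h) : D.xv h (q ≫ u.top h) = D'.xv h q := by
  rw [Chart.xv, Over.comp_left, Γhom_apply, (u.top_spec h).2.1]

theorem ChartHom.yv {W : Over S} (q : W ⟶ D'.P h) : D.yv h (q ≫ u.top h) = D'.yv h q := by
  rw [Chart.yv, Over.comp_left, Γhom_apply, (u.top_spec h).2.2]

theorem ChartHom.pv {W : Over S} (q : W ⟶ D'.P h) : D.pv h (q ≫ u.top h) = D'.pv h q := by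
  have e : (u.top h).left ≫ D.proj = D'.proj ≫ u.f.left := congrArg (fun f => f.left) (u.top_spec h).1
  rw [Chart.pv, Over.comp_left, Category.assoc, e, ← Category.assoc, Γhom_apply, ← cst_comp, Over.w]

theorem ChartHom.eqv : (D'.act h).act ≫ u.top h = (G ◁ u.top h) ≫ (D.act h).act := by
  rw [Chart.act, Chart.act, D.comp_shift, whiskerLeft_fst, whiskerLeft_snd]
  obtain ⟨a1, a2, a3⟩ := D'.shift_spec h (fst G (D'.P h)) (snd G (D'.P h))
  obtain ⟨b1, b2, b3⟩ := D.shift_spec h (fst G (D'.P h)) (snd G (D'.P h) ≫ u.top h)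
  refine D.ext_pt h _ _ ?_ ?_ ?_
  · rw [b1, Category.assoc, Category.assoc, (u.top_spec h).1, reassoc_of% a1]
  · rw [u.xv, a2, b2, u.xv, u.pv]
  · rw [u.yv, a3, b3, u.yv, u.xv, u.pv]

theorem ChartHom.cart : IsPullback (u.top h) (D'.π h) (D.π h) ((Over.map h).map u.f) := by
  have hex : ∀ c : PullbackCone (D.π h) ((Over.map h).map u.f),
      ∃ m : c.pt ⟶ D'.P h, m ≫ u.top h = c.fst ∧ m ≫ D'.π h = c.snd := fun c => by
    have e : c.fst.left ≫ D.proj = c.snd.left ≫ u.f.left := congrArg (fun f => f.left) c.condition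
    obtain ⟨a, ha, hx, hy⟩ := D'.exists_pt c.snd.left (D.xv h c.fst) (D.yv h c.fst)
      (by
        have := D.pt_eq c.fst.left
        rwa [e, Γhom_apply, ← cst_comp, Over.w] at this)
      (by rw [← u.cond_eq, ← e]; exact D.pt_cond _)
    let m : c.pt ⟶ D'.P h := Over.homMk a (by
      simp only [Over.mk_hom, reassoc_of% ha]; exact Over.w c.snd)
    have hm : m ≫ D'.π h = c.snd := Over.OverMorphism.ext ha
    refine ⟨m, D.ext_pt h _ _ ?_ ((u.xv h m).trans hx) ((u.yv h m).trans hy), hm⟩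
    rw [Category.assoc, (u.top_spec h).1, reassoc_of% hm, c.condition]
  refine ⟨⟨(u.top_spec h).1⟩, ⟨PullbackCone.IsLimit.mk _ (fun c => (hex c).choose) (fun c => (hex c).choose_spec.1)
    (fun c => (hex c).choose_spec.2) fun c m h₁ h₂ => D'.ext_pt h _ _ (h₂.trans (hex c).choose_spec.2.symm) ?_ ?_⟩⟩
  · rw [← u.xv, h₁]; exact ((u.xv h _).symm.trans (congrArg (D.xv h) (hex c).choose_spec.1)).symm
  · rw [← u.yv, h₁]; exact ((u.yv h _).symm.trans (congrArg (D.yv h) (hex c).choose_spec.1)).symm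

/-- The morphism of `BG`. -/
def ChartHom.quot : D'.quot h ⟶ D.quot h where
  base := (Over.map h).map u.f
  top := u.top h
  eqv := u.eqv h
  cart := u.cart h
  wφ := toUnit_unique _ _

end Groth.L11.BGaS
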